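import Cfsg.Agent.H45.XL.Defs

/-!
# S4791 + S4927, `PSL_n` : the alternating sum (helper45)

`AA N β = ∑_κ sgn κ N (β - κ)`; `AA_Dp` : it commutes with the removal of blocks; `AA_alt`, `AA_kp`;
`sym_of_iterate` : the symmetry of the tail.
-/

set_option autoImplicit false
set_option linter.unusedSectionVars false

namespace Cfsg.Agent.H45.XL

open Finset Cfsg.Agent.H614 Cfsg.Agent.H963.XZ

variable {m : ℕ} {K : Type*} [Ring K]

open Classical in
/-- the alternating sum -/
noncomputable def AA (N : (Fin m → ℕ) → K) (β : Fin m → ℕ) : K :=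
  ∑ κ : Equiv.Perm (Fin m), if ∀ i, ((κ i : Fin m) : ℕ) ≤ β i then (sg κ : K) * N (fun i => β i - ((κ i : Fin m) : ℕ)) else 0

theorem AA_Dp (e : ℕ) (N : (Fin m → ℕ) → K) : AA (Dp e N) = Dp e (AA N) := by
  classical
  funext β
  unfold AA
  rw [Dp_apply]
  have h1 : ∀ i : Fin m, (if e ≤ β i then ∑ κ : Equiv.Perm (Fin m), (if ∀ l, ((κ l : Fin m) : ℕ) ≤ dn β i e l then
      (sg κ : K) * N (fun l => dn β i e l - ((κ l : Fin m) : ℕ)) else 0) else 0) =
      ∑ κ : Equiv.Perm (Fin m), (if e ≤ β i ∧ ∀ l, ((κ l : Fin m) : ℕ) ≤ dn β i e l then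
      (sg κ : K) * N (fun l => dn β i e l - ((κ l : Fin m) : ℕ)) else 0) := by
    intro i
    by_cases h : e ≤ β i
    · simp [h]
    · simp [h]
  rw [Finset.sum_congr rfl fun i _ => h1 i, Finset.sum_comm]
  refine Finset.sum_congr rfl fun κ _ => ?_
  by_cases hκ : ∀ l, ((κ l : Fin m) : ℕ) ≤ β l
  · rw [if_pos hκ, Dp_apply, Finset.mul_sum]
    refine Finset.sum_congr rfl fun i _ => ?_
    have h2 : (e ≤ β i - ((κ i : Fin m) : ℕ)) ↔ (e ≤ β i ∧ ∀ l, ((κ l : Fin m) : ℕ) ≤ dn β i e l) := by
      constructor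
      · intro h
        have := hκ i
        refine ⟨by omega, fun l => ?_⟩
        by_cases hl : l = i
        · subst hl
          rw [dn_self]
          omega
        · rw [dn_ne _ _ hl]
          exact hκ l
      · rintro ⟨h, h'⟩
        have h3 := h' i
        rw [dn_self] at h3
        omega
    by_cases h : e ≤ β i - ((κ i : Fin m) : ℕ)
    · rw [if_pos h, if_pos (h2.1 h)]
      congr 2
      funext l
      by_cases hl : l = i
      · subst hl
        rw [dn_self, dn_self]
        omega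
      · rw [dn_ne _ _ hl, dn_ne _ _ hl]
    · rw [if_neg h, if_neg (fun h' => h (h2.2 h')), mul_zero]
  · rw [if_neg hκ]
    symm
    refine Finset.sum_eq_zero fun i _ => if_neg ?_
    rintro ⟨h, h'⟩
    apply hκ
    intro l
    have h3 := h' l
    by_cases hl : l = i
    · subst hl
      rw [dn_self] at h3
      omega
    · rwa [dn_ne _ _ hl] at h3

theorem AA_iterate (e w : ℕ) (N : (Fin m → ℕ) → K) : AA ((Dp e)^[w] N) = (Dp e)^[w] (AA N) := by
  induction w with
  | zero => rfl
  | succ w ih => rw [Function.iterate_succ_apply', AA_Dp, ih, Function.iterate_succ_apply']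

theorem AA_alt {N : (Fin m → ℕ) → K} (hN : ∀ (σ : Equiv.Perm (Fin m)) (a : Fin m → ℕ), N (a ∘ σ) = N a) : Alt (AA N) := by
  classical
  intro σ β
  unfold AA
  rw [Finset.smul_sum, ← Equiv.sum_comp (Equiv.mulRight σ)]
  refine Finset.sum_congr rfl fun κ _ => ?_
  have h1 : (∀ i, (((Equiv.mulRight σ κ) i : Fin m) : ℕ) ≤ (β ∘ σ) i) ↔ ∀ i, ((κ i : Fin m) : ℕ) ≤ β i := by
    constructor
    · intro h i
      have := h (σ⁻¹ i)
      simpa using this
    · intro h i
      simpa using h (σ i)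
  by_cases h : ∀ i, ((κ i : Fin m) : ℕ) ≤ β i
  · rw [if_pos (h1.2 h), if_pos h]
    have h2 : (fun i => (β ∘ σ) i - (((Equiv.mulRight σ κ) i : Fin m) : ℕ)) = (fun i => β i - ((κ i : Fin m) : ℕ)) ∘ σ := by
      funext i
      simp
    rw [h2, hN, Equiv.coe_mulRight, sg_mul, zsmul_eq_mul, ← mul_assoc]
    congr 1
    push_cast
    rw [Int.cast_comm]
  · rw [if_neg (fun h' => h (h1.1 h')), if_neg h, smul_zero]

theorem eq_one_of_le_kp {s : ℕ} {κ : Equiv.Perm (Fin m)} (hκ : ∀ i, ((κ i : Fin m) : ℕ) ≤ kp m s i) : κ = 1 := by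
  -- below the last index the permutation does not increase
  have h1 : ∀ i : Fin m, ((κ i : Fin m) : ℕ) ≤ i := by
    intro i
    by_cases h : (i : ℕ) + 1 = m
    · have := (κ i).2
      omega
    · have := hκ i
      rwa [kp_lt i h] at this
  have h2 : ∀ i : Fin m, κ i = i := by
    intro i
    induction hk : (i : ℕ) using Nat.strong_induction_on generalizing i with
    | _ k ih =>
      by_contra hne
      have h3 : ((κ i : Fin m) : ℕ) < i := lt_of_le_of_ne (h1 i) fun h => hne (Fin.ext h)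
      have h4 := ih (κ i : Fin m) (by omega) (κ i) rfl
      exact hne (κ.injective h4)
  exact Equiv.ext h2

theorem AA_kp (N : (Fin m → ℕ) → K) (s : ℕ) :
    AA N (kp m s) = N (fun i => kp m s i - (i : ℕ)) := by
  classical
  unfold AA
  rw [Finset.sum_eq_single 1]
  · rw [if_pos]
    · simp [sg]
    · intro i
      rw [Equiv.Perm.coe_one, id]
      unfold kp
      split_ifs <;> omega
  · intro κ _ hne
    exact if_neg fun h => hne (eq_one_of_le_kp h)
  · intro h
    exact absurd (Finset.mem_univ _) h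

theorem AA_sum {N : (Fin m → ℕ) → K} {s : ℕ} (hN : ∀ a, ∑ i, a i ≠ s → N a = 0) (γ : Fin m → ℕ)
    (hγ : ∑ i, γ i ≠ s + ∑ i : Fin m, (i : ℕ)) : AA N γ = 0 := by
  classical
  unfold AA
  refine Finset.sum_eq_zero fun κ _ => ?_
  by_cases h : ∀ i, ((κ i : Fin m) : ℕ) ≤ γ i
  · rw [if_pos h, hN, mul_zero]
    intro h1
    apply hγ
    have h2 : ∑ i, (γ i - ((κ i : Fin m) : ℕ)) + ∑ i, ((κ i : Fin m) : ℕ) = ∑ i, γ i := by
      rw [← Finset.sum_add_distrib]
      exact Finset.sum_congr rfl fun i _ => Nat.sub_add_cancel (h i)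
    rw [Equiv.sum_comp κ (fun i : Fin m => (i : ℕ)), h1] at h2
    exact h2.symm
  · rw [if_neg h]

/-- a large part takes all blocks -/
theorem iterate_up {e : ℕ} (N : (Fin m → ℕ) → K) {a : Fin m → ℕ} (ha : ∀ k, a k < e) (i : Fin m) (j : ℕ) :
    (Dp e)^[j] N (up a i (e * j)) = N a := by
  induction j with
  | zero =>
    have h : up a i (e * 0) = a := by
      unfold up
      rw [mul_zero, add_zero, Function.update_eq_self]
    rw [h]
    rfl
  | succ j ih =>
    rw [Function.iterate_succ_apply', Dp_apply, Finset.sum_eq_single i]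
    · have h1 : dn (up a i (e * (j + 1))) i e = up a i (e * j) := by
        funext k
        by_cases hk : k = i
        · subst hk
          rw [dn_self, up_self, up_self, Nat.mul_add]
          omega
        · rw [dn_ne _ _ hk, up_ne _ _ hk, up_ne _ _ hk]
      rw [if_pos, h1, ih]
      rw [up_self, Nat.mul_add]
      omega
    · intro k _ hk
      rw [if_neg]
      rw [up_ne _ _ hk]
      have := ha k
      omega
    · intro h
      exact absurd (Finset.mem_univ _) h

/-- **The tail is symmetric**, if the whole function is. -/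
theorem sym_of_iterate {e s w : ℕ} (hs : s < e) (N : (Fin m → ℕ) → K) (hN : ∀ a, ∑ i, a i ≠ s → N a = 0)
    (hsym : ∀ (σ : Equiv.Perm (Fin m)) (a : Fin m → ℕ), (Dp e)^[w] N (a ∘ σ) = (Dp e)^[w] N a)
    (σ : Equiv.Perm (Fin m)) (a : Fin m → ℕ) : N (a ∘ σ) = N a := by
  by_cases ha : ∑ i, a i = s
  · have hlt : ∀ k, a k < e := fun k => by
      have := Finset.single_le_sum (f := a) (fun _ _ => Nat.zero_le _) (Finset.mem_univ k)
      omega
    rcases Nat.eq_zero_or_pos m with h0 | h0
    · subst h0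
      congr 1
      funext i
      exact i.elim0
    · let i : Fin m := ⟨0, h0⟩
      rw [← iterate_up N (a := a ∘ σ) (fun k => hlt (σ k)) i w, up_comp, hsym, iterate_up N hlt]
  · have h1 : ∑ i, (a ∘ σ) i = ∑ i, a i := Equiv.sum_comp σ a
    rw [hN a ha, hN _ (by rw [h1]; exact ha)]

end Cfsg.Agent.H45.XL
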