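import Cfsg.Agent.H614.Alt
import Cfsg.Agent.H963.XZ.Bt

/-!
# S4791 + S4927, `PSL_n` : removal of blocks (helper45)

`Dp e A` : the lowering operator `A ↦ (β ↦ ∑_i A (β - e 1_i))` on functions of beta-numbers.
-/

set_option autoImplicit false

namespace Cfsg.Agent.H45.XL

open Finset Cfsg.Agent.H614

variable {m : ℕ} {K : Type*} [AddCommGroup K]

/-- the removal of one block of dimension `e` -/
def Dp (e : ℕ) (A : (Fin m → ℕ) → K) : (Fin m → ℕ) → K := fun β => ∑ i, if e ≤ β i then A (dn β i e) else 0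

theorem Dp_apply (e : ℕ) (A : (Fin m → ℕ) → K) (β : Fin m → ℕ) : Dp e A β = ∑ i, if e ≤ β i then A (dn β i e) else 0 := rfl

/-- the tails: alternating functions on the labels of `(s)` -/
structure Tail (p m s : ℕ) (A : (Fin m → ℕ) → ZMod p) : Prop where
  alt : Alt A
  row : A (Cfsg.Agent.H963.XZ.kp m s) = 1
  sum : ∀ γ, ∑ i, γ i ≠ s + ∑ i : Fin m, (i : ℕ) → A γ = 0

end Cfsg.Agent.H45.XL
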