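import Cfsg.Agent.H45.XL.Stab
import Cfsg.Agent.H45.XL.AA
import Cfsg.Agent.H87.FlagsGL
import Cfsg.Agent.H583.BR.Flag

/-!
# S4791 + S4927, `PSL_n` : the fixed points of the flag characters (helper45)

`fz_flg` : the fixed points of the image of `s` on `PSL_n / P_a` are the `s`-stable chains of type `a`.
`NN_modEq` : the chains stable under a `p`-group commuting with `s`.
-/

set_option autoImplicit false
set_option linter.unusedSectionVars false

namespace Cfsg.Agent.H45.XL

open scoped MatrixGroups Pointwise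
open Finset Module Matrix MulAction Cfsg.Agent.H614 Cfsg.Agent.H87.Flags Cfsg.Agent.H87.FlagsGL
open Cfsg.Agent.H139.BlockCount Cfsg.Agent.H139.FlagInner Cfsg.Agent.H583.BR
open Cfsg.Agent.ClassicalGeometry.AutPSL.Root

variable {F : Type*} [Field F] {n : ℕ}

/-- the endomorphism of an element of `SL_n` -/
noncomputable def lm (s : SpecialLinearGroup (Fin n) F) : Module.End F (Vec F n) :=
  DistribSMul.toLinearMap F (Vec F n) s

theorem lm_apply (s : SpecialLinearGroup (Fin n) F) (v : Vec F n) : lm s v = s • v := rfl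

theorem ps_psum (a : Fin n → ℕ) (j : Fin n) : ps a j = psum a (j.val + 1) := by
  unfold ps psum
  congr 1
  ext k
  simp only [Finset.mem_Iic, Finset.mem_filter, Finset.mem_univ, true_and, Fin.le_def]
  omega

theorem psum_le (a : Fin n → ℕ) (k : ℕ) : psum a k ≤ ∑ i, a i :=
  Finset.sum_le_sum_of_subset (Finset.filter_subset _ _)

theorem matches_ps {a : Fin n → ℕ} (ha : ∑ i, a i = n) : Matches a (ps a) where
  sum := ha
  mono := by
    intro i j hij
    rw [ps_psum, ps_psum]
    exact psum_mono a (by have := Fin.le_def.1 hij; omega)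
  le i := by
    rw [ps_psum]
    exact (psum_le a _).trans ha.le
  left j hj := by
    rcases Nat.eq_zero_or_pos j with h | h
    · left
      rw [h, psum_zero]
    · right; right
      refine ⟨⟨j - 1, by omega⟩, ?_⟩
      rw [ps_psum]
      congr 1
      change j - 1 + 1 = j
      omega
  right i := ⟨i.val + 1, i.2, (ps_psum a i).symm⟩

section fz

variable [Fintype F]

/-- `SL_n` is transitive on the chains -/
theorem exists_sl (hn : 0 < n) {a : Fin n → ℕ} {d : Fin n → ℕ} (M : Matches a d) (W : Fl F (Vec F n) d) :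
    ∃ t : SpecialLinearGroup (Fin n) F, SpecialLinearGroup.toGL t • std (F := F) d M.mono M.le = W := by
  obtain ⟨g, hg⟩ := fl_transitive (std (F := F) d M.mono M.le) W
  obtain ⟨c, hc⟩ := exists_prod_eq (F := F) hn (GeneralLinearGroup.det g)⁻¹
  obtain ⟨t, ht⟩ := exists_toGL (g := g * dg c) (by rw [map_mul, det_dg, hc, mul_inv_cancel])
  refine ⟨t, ?_⟩
  have h1 : (dg c : GL (Fin n) F) • std (F := F) d M.mono M.le = std d M.mono M.le := by
    rw [← mem_stabilizer_iff, stabilizer_std M]
    exact dg_mem a c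
  rw [ht, mul_smul, h1, hg]

theorem smul_std_eq_iff {a : Fin n → ℕ} {d : Fin n → ℕ} (M : Matches a d) (t t' : SpecialLinearGroup (Fin n) F) :
    SpecialLinearGroup.toGL t • std (F := F) d M.mono M.le = SpecialLinearGroup.toGL t' • std d M.mono M.le ↔
      (QuotientGroup.mk (pr t) : ProjectiveSpecialLinearGroup (Fin n) F ⧸ flg n F a) = QuotientGroup.mk (pr t') := by
  rw [QuotientGroup.eq, ← map_inv, ← map_mul, mem_flg]
  change _ ↔ SpecialLinearGroup.toGL (t⁻¹ * t') ∈ parabolicGL n F a
  rw [← stabilizer_std M, mem_stabilizer_iff, map_mul, map_inv, mul_smul, inv_smul_eq_iff]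
  exact eq_comm

/-- **The fixed points.** -/
theorem card_fixed (hn : 0 < n) {a : Fin n → ℕ} {d : Fin n → ℕ} (M : Matches a d) (s : SpecialLinearGroup (Fin n) F) :
    Nat.card (fixedBy (ProjectiveSpecialLinearGroup (Fin n) F ⧸ flg n F a) (pr s)) =
      Nat.card {W : Fl F (Vec F n) d // SpecialLinearGroup.toGL s • W = W} := by
  classical
  -- the map from the cosets to the chains
  have hsurj : Function.Surjective (fun t : SpecialLinearGroup (Fin n) F =>
      (QuotientGroup.mk (pr t) : ProjectiveSpecialLinearGroup (Fin n) F ⧸ flg n F a)) := by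
    intro y
    induction y using QuotientGroup.induction_on with | H x => ?_
    obtain ⟨t, rfl⟩ := pr_surjective x
    exact ⟨t, rfl⟩
  choose g hg using hsurj
  let φ : (ProjectiveSpecialLinearGroup (Fin n) F ⧸ flg n F a) → Fl F (Vec F n) d :=
    fun y => SpecialLinearGroup.toGL (g y) • std (F := F) d M.mono M.le
  have key : ∀ t : SpecialLinearGroup (Fin n) F, φ (QuotientGroup.mk (pr t)) =
      SpecialLinearGroup.toGL t • std (F := F) d M.mono M.le := by
    intro t
    exact (smul_std_eq_iff M _ _).2 (hg _)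
  have hinj : Function.Injective φ := by
    intro x y hxy
    have h1 := (smul_std_eq_iff M _ _).1 hxy
    rw [← hg x, ← hg y]
    exact h1
  have hsur : Function.Surjective φ := by
    intro W
    obtain ⟨t, ht⟩ := exists_sl hn M W
    exact ⟨QuotientGroup.mk (pr t), (key t).trans ht⟩
  have hequi : ∀ y, φ (pr s • y) = SpecialLinearGroup.toGL s • φ y := by
    intro y
    obtain ⟨t, rfl⟩ : ∃ t : SpecialLinearGroup (Fin n) F,
        (QuotientGroup.mk (pr t) : ProjectiveSpecialLinearGroup (Fin n) F ⧸ flg n F a) = y := ⟨g y, hg y⟩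
    have h1 : pr s • (QuotientGroup.mk (pr t) : ProjectiveSpecialLinearGroup (Fin n) F ⧸ flg n F a) =
        QuotientGroup.mk (pr (s * t)) := by
      rw [map_mul]
      rfl
    rw [h1, key, key, map_mul, mul_smul]
  refine Nat.card_congr ((Equiv.ofBijective φ ⟨hinj, hsur⟩).subtypeEquiv fun y => ?_)
  change pr s • y = y ↔ SpecialLinearGroup.toGL s • φ y = φ y
  rw [← hequi]
  exact hinj.eq_iff.symm

theorem smul_eq_iff_stable [FiniteDimensional F (Vec F n)] (s : SpecialLinearGroup (Fin n) F) (x : Submodule F (Vec F n)) :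
    SpecialLinearGroup.toGL s • x = x ↔ ∀ v ∈ x, lm s v ∈ x := by
  constructor
  · intro h v hv
    have h1 : SpecialLinearGroup.toGL s • v ∈ SpecialLinearGroup.toGL s • x := smul_mem_smul.2 hv
    rw [h] at h1
    exact h1
  · intro h
    apply Submodule.eq_of_le_of_finrank_eq
    · intro v hv
      rw [mem_smul_iff] at hv
      have h1 := h _ hv
      have h2 : lm s ((SpecialLinearGroup.toGL s)⁻¹ • v) = v := by
        change SpecialLinearGroup.toGL s • ((SpecialLinearGroup.toGL s)⁻¹ • v) = v
        rw [smul_inv_smul]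
      rwa [h2] at h1
    · exact Cfsg.Agent.H87.Flags.finrank_smul _ _

/-- **The flag character.** -/
theorem fz_flg (hn : 0 < n) {a : Fin n → ℕ} (ha : ∑ i, a i = n) (s : SpecialLinearGroup (Fin n) F) :
    fz (flg n F a) (pr s) = (NN (St {lm s}) a : ℤ) := by
  unfold fz
  rw [card_fixed hn (matches_ps ha) s]
  unfold NN
  congr 1
  refine Nat.card_congr ?_
  refine
    { toFun := fun W => ⟨W.1.1, W.1.2.1, fun j => ⟨?_, W.1.2.2 j⟩⟩
      invFun := fun x => ⟨⟨x.1, x.2.1, fun j => (x.2.2 j).2⟩, ?_⟩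
      left_inv := fun W => rfl
      right_inv := fun x => rfl }
  · rintro f rfl
    have h1 := congrArg (fun Z : Fl F (Vec F n) (ps a) => Z.1 j) W.2
    exact (smul_eq_iff_stable s _).1 h1
  · apply Subtype.ext
    funext j
    exact (smul_eq_iff_stable s _).2 ((x.2.2 j).1 _ rfl)

/-- the elements of a subgroup as endomorphisms -/
def lms (Q : Subgroup (SpecialLinearGroup (Fin n) F)) : Set (Module.End F (Vec F n)) := {f | ∃ t ∈ Q, f = lm t}

theorem stable_smul {s t : SpecialLinearGroup (Fin n) F} (hst : t * s = s * t) {x : Submodule F (Vec F n)}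
    (hx : x ∈ St {lm s}) : t • x ∈ St {lm s} := by
  rintro f rfl v hv
  rw [mem_smul_iff] at hv ⊢
  have h1 := hx _ rfl _ hv
  rw [lm_apply] at h1 ⊢
  have h2 : t⁻¹ * s = s * t⁻¹ := by
    calc t⁻¹ * s = t⁻¹ * (s * t) * t⁻¹ := by group
      _ = s * t⁻¹ := by rw [← hst]; group
  rwa [← mul_smul, h2, mul_smul]

/-- the action on the chains -/
noncomputable def chAct (Q : Subgroup (SpecialLinearGroup (Fin n) F)) {s : SpecialLinearGroup (Fin n) F}
    (hc : ∀ t ∈ Q, t * s = s * t) (a : Fin n → ℕ) :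
    MulAction Q {x : Fin n → Submodule F (Vec F n) // IsCh (St {lm s}) a x} where
  smul t x := ⟨fun j => (t : SpecialLinearGroup (Fin n) F) • x.1 j, fun j k hjk => smul_le_smul.2 (x.2.1 hjk), fun j =>
    ⟨stable_smul (hc t t.2) (x.2.2 j).1, (Cfsg.Agent.H87.Flags.finrank_smul _ _).trans (x.2.2 j).2⟩⟩
  one_smul x := Subtype.ext (funext fun j => one_smul (SpecialLinearGroup (Fin n) F) (x.1 j))
  mul_smul t u x := Subtype.ext (funext fun j => mul_smul (t : SpecialLinearGroup (Fin n) F) u (x.1 j))

theorem smul_eq_iff_stable' [FiniteDimensional F (Vec F n)] (s : SpecialLinearGroup (Fin n) F) (x : Submodule F (Vec F n)) :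
    s • x = x ↔ ∀ v ∈ x, lm s v ∈ x := by
  rw [← smul_eq_iff_stable]
  rfl

/-- **The chains stable under a `p`-group.** -/
theorem NN_modEq {p : ℕ} [hp : Fact p.Prime] {Q : Subgroup (SpecialLinearGroup (Fin n) F)} (hQ : IsPGroup p Q)
    {s : SpecialLinearGroup (Fin n) F} (hc : ∀ t ∈ Q, t * s = s * t) (a : Fin n → ℕ) :
    NN (St {lm s}) a ≡ NN (St (lms Q ∪ {lm s})) a [MOD p] := by
  classical
  let _ := chAct Q hc a
  have hfin : Finite (Submodule F (Vec F n)) := inferInstance
  have h1 := hQ.card_modEq_card_fixedPoints {x : Fin n → Submodule F (Vec F n) // IsCh (St {lm s}) a x}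
  have h2 : Nat.card (MulAction.fixedPoints Q {x : Fin n → Submodule F (Vec F n) // IsCh (St {lm s}) a x}) =
      NN (St (lms Q ∪ {lm s})) a := by
    unfold NN
    refine Nat.card_congr
      { toFun := fun x => ⟨x.1.1, x.1.2.1, fun j => ⟨?_, (x.1.2.2 j).2⟩⟩
        invFun := fun x => ⟨⟨x.1, x.2.1, fun j => ⟨fun f hf => (x.2.2 j).1 f (Or.inr hf), (x.2.2 j).2⟩⟩, ?_⟩
        left_inv := fun x => rfl
        right_inv := fun x => rfl }
    · rintro f (⟨t, ht, rfl⟩ | hf)
      · have h3 := congrArg (fun z : {x : Fin n → Submodule F (Vec F n) // IsCh (St {lm s}) a x} => z.1 j) (x.2 ⟨t, ht⟩)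
        exact (smul_eq_iff_stable' t _).1 h3
      · exact (x.1.2.2 j).1 f hf
    · intro t
      apply Subtype.ext
      funext j
      exact (smul_eq_iff_stable' (t : SpecialLinearGroup (Fin n) F) _).2 ((x.2.2 j).1 _ (Or.inl ⟨t, t.2, rfl⟩))
  rw [h2] at h1
  exact h1

end fz

end Cfsg.Agent.H45.XL
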