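import Mathlib

/-!
# S4791 + S4927, `PSL_n` : irreducible elements of order `p` (helper45)

`F` of order `q`, `e` the order of `q` modulo `p`, `dim E = e`.
* `exists_irr` : there is `z ≠ 1` with `z ^ p = 1`;
* `irr_of` : such a `z` has no fixed vectors and leaves only `0` and `E` invariant.
-/

set_option autoImplicit false
set_option linter.unusedSectionVars false

namespace Cfsg.Agent.H45.XL

open Module Finset

variable {F : Type*} [Field F] [Fintype F] {p : ℕ} [hp : Fact p.Prime] {e : ℕ}

theorem pow_eq_one_of_modEq (hpF : ¬ p ∣ Fintype.card F) (he : orderOf ((Fintype.card F : ℕ) : ZMod p) = e) {a b : ℕ}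
    (hab : a ≤ b) (h : Fintype.card F ^ b ≡ Fintype.card F ^ a [MOD p]) : e ∣ b - a := by
  rw [← he, orderOf_dvd_iff_pow_eq_one]
  have h1 : ((Fintype.card F : ℕ) : ZMod p) ≠ 0 := fun h0 => hpF ((ZMod.natCast_eq_zero_iff _ _).1 h0)
  have h2 := (ZMod.natCast_eq_natCast_iff _ _ _).2 h
  push_cast at h2
  have h3 : ((Fintype.card F : ℕ) : ZMod p) ^ b = ((Fintype.card F : ℕ) : ZMod p) ^ (b - a) * ((Fintype.card F : ℕ) : ZMod p) ^ a := by
    rw [← pow_add, Nat.sub_add_cancel hab]
  rw [h3] at h2
  exact mul_right_cancel₀ (pow_ne_zero a h1) (by rw [one_mul]; exact h2)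

section fix

variable {W : Type*} [AddCommGroup W] [Module F W] [FiniteDimensional F W]

/-- the number of the fixed vectors -/
theorem card_fix_modEq {z : End F W} (hz : z ^ p = 1) :
    Fintype.card F ^ finrank F W ≡ Fintype.card F ^ finrank F (LinearMap.ker (z - 1)) [MOD p] := by
  classical
  have : Finite W := Module.finite_of_finite F
  let _ : Fintype W := Fintype.ofFinite W
  let _ : Fintype (LinearMap.ker (z - 1)) := Fintype.ofFinite _
  let f : Function.End W := fun v => z v
  have h1 : f ^ p ^ 1 = 1 := by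
    rw [pow_one]
    funext v
    have h2 : ∀ (k : ℕ) (v : W), (f ^ k) v = (z ^ k) v := by
      intro k
      induction k with
      | zero => intro v; rfl
      | succ k ih =>
        intro v
        rw [pow_succ, pow_succ, Module.End.mul_apply, ← ih]
        rfl
    rw [h2, hz]
    rfl
  have h2 := Equiv.Perm.card_fixedPoints_modEq (f := f) h1
  rw [← card_eq_pow_finrank (K := F) (V := W), ← card_eq_pow_finrank (K := F) (V := LinearMap.ker (z - 1))]
  have h3 : Fintype.card (Function.fixedPoints f) = Fintype.card (LinearMap.ker (z - 1)) := by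
    refine Fintype.card_congr (Equiv.subtypeEquivRight fun v => ?_)
    rw [LinearMap.mem_ker, LinearMap.sub_apply, sub_eq_zero]
    rfl
  rw [← h3]
  exact h2

theorem eq_one_of_small (hpF : ¬ p ∣ Fintype.card F) (he : orderOf ((Fintype.card F : ℕ) : ZMod p) = e)
    {z : End F W} (hz : z ^ p = 1) (hW : finrank F W < e) : z = 1 := by
  have h1 := card_fix_modEq (p := p) hz
  have h2 := Submodule.finrank_le (LinearMap.ker (z - 1))
  have h3 := pow_eq_one_of_modEq hpF he h2 h1
  have h4 : finrank F W - finrank F (LinearMap.ker (z - 1)) = 0 := by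
    rcases Nat.eq_zero_or_pos (finrank F W - finrank F (LinearMap.ker (z - 1))) with h | h
    · exact h
    · have := Nat.le_of_dvd h h3
      omega
  have h5 : LinearMap.ker (z - 1) = ⊤ := Submodule.eq_top_of_finrank_eq (by omega)
  rw [LinearMap.ker_eq_top, sub_eq_zero] at h5
  exact h5

/-- **no fixed vectors** -/
theorem ker_eq_bot (hpF : ¬ p ∣ Fintype.card F) (he : orderOf ((Fintype.card F : ℕ) : ZMod p) = e)
    {z : End F W} (hz : z ^ p = 1) (hz1 : z ≠ 1) (hW : finrank F W = e) : LinearMap.ker (z - 1) = ⊥ := by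
  have h1 := card_fix_modEq (p := p) hz
  have h2 := Submodule.finrank_le (LinearMap.ker (z - 1))
  have h3 := pow_eq_one_of_modEq hpF he h2 h1
  have h4 : finrank F (LinearMap.ker (z - 1)) < finrank F W := by
    refine Submodule.finrank_lt ?_
    rw [Ne, LinearMap.ker_eq_top, sub_eq_zero]
    exact hz1
  have h5 := Nat.le_of_dvd (by omega) h3
  exact Submodule.finrank_eq_zero.1 (by omega)

/-- **irreducible** -/
theorem irr_of (hpF : ¬ p ∣ Fintype.card F) (he : orderOf ((Fintype.card F : ℕ) : ZMod p) = e)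
    {z : End F W} (hz : z ^ p = 1) (hz1 : z ≠ 1) (hW : finrank F W = e) (y : Submodule F W) (hy : ∀ v ∈ y, z v ∈ y) :
    y = ⊥ ∨ y = ⊤ := by
  by_cases h : y = ⊤
  · exact Or.inr h
  left
  have h1 : finrank F y < e := by
    rw [← hW]
    exact Submodule.finrank_lt h
  let g : End F y := z.restrict hy
  have hg : ∀ (k : ℕ) (v : y), ((g ^ k) v : W) = (z ^ k) v := by
    intro k v
    induction k with
    | zero => rfl
    | succ k ih => rw [pow_succ', pow_succ', Module.End.mul_apply, Module.End.mul_apply, ← ih]; rfl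
  have h2 : g = 1 := by
    refine eq_one_of_small hpF he (p := p) ?_ h1
    apply LinearMap.ext
    intro v
    apply Subtype.ext
    rw [hg, hz]
    rfl
  rw [eq_bot_iff]
  intro v hv
  rw [← ker_eq_bot hpF he hz hz1 hW, LinearMap.mem_ker, LinearMap.sub_apply, sub_eq_zero]
  have h3 := congrArg (fun g : End F y => ((g ⟨v, hv⟩ : y) : W)) h2
  exact h3

end fix

/-- **existence** -/
theorem exists_irr (he : orderOf ((Fintype.card F : ℕ) : ZMod p) = e) (he0 : 0 < e) :
    ∃ z : End F (Fin e → F), z ^ p = 1 ∧ z ≠ 1 := by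
  classical
  have h1 : p ∣ Nat.card (Matrix.GeneralLinearGroup (Fin e) F) := by
    rw [Matrix.card_GL_field]
    refine Dvd.dvd.trans ?_ (Finset.dvd_prod_of_mem _ (Finset.mem_univ (⟨0, he0⟩ : Fin e)))
    have h2 := pow_orderOf_eq_one ((Fintype.card F : ℕ) : ZMod p)
    rw [he] at h2
    have h3 : 1 ≤ Fintype.card F ^ e := Nat.one_le_pow _ _ Fintype.card_pos
    rw [← ZMod.natCast_eq_zero_iff]
    change ((Fintype.card F ^ e - Fintype.card F ^ 0 : ℕ) : ZMod p) = 0
    rw [pow_zero, Nat.cast_sub h3]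
    push_cast
    rw [h2, sub_self]
  obtain ⟨g, hg⟩ := exists_prime_orderOf_dvd_card' p h1
  have hg1 : g ^ p = 1 := by rw [← hg, pow_orderOf_eq_one]
  refine ⟨Matrix.toLin' (g : Matrix (Fin e) (Fin e) F), ?_, ?_⟩
  · have h2 : ∀ k : ℕ, (Matrix.toLin' (g : Matrix (Fin e) (Fin e) F)) ^ k = Matrix.toLin' ((g ^ k : Matrix.GeneralLinearGroup (Fin e) F) : Matrix (Fin e) (Fin e) F) := by
      intro k
      induction k with
      | zero => rw [pow_zero, pow_zero, Units.val_one, Matrix.toLin'_one]; rfl
      | succ k ih => rw [pow_succ, ih, pow_succ, Units.val_mul, Matrix.toLin'_mul]; rfl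
    rw [h2, hg1, Units.val_one, Matrix.toLin'_one]
    rfl
  · intro h2
    have h3 : (g : Matrix (Fin e) (Fin e) F) = 1 := by
      apply Matrix.toLin'.injective
      rw [h2, Matrix.toLin'_one]
      rfl
    have h4 : g = 1 := Units.ext h3
    rw [h4, orderOf_one] at hg
    exact hp.out.one_lt.ne hg

end Cfsg.Agent.H45.XL
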