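import Cfsg.Agent.H45.XL.Geo
import Cfsg.Agent.H963.XZ.Loc

/-!
# S4791 + S4927, `PSL_n` : the functional of the flag combinations (helper45)

`QData p Q w e s0` : a `p`-subgroup `Q` of `SL_n(F)`, for every `s` commuting with `Q` the space is a sum of `w` blocks of
dimension `e` and a space of dimension `s0`.
`FV_of_Q` : the value of the functional on the combination with the label `β`.
-/

set_option autoImplicit false
set_option linter.unusedSectionVars false

namespace Cfsg.Agent.H45.XL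

open scoped MatrixGroups Pointwise
open Finset Module Matrix MulAction Cfsg.Agent.H614 Cfsg.Agent.H87.Flags Cfsg.Agent.H87.FlagsGL
open Cfsg.Agent.H139.BlockCount Cfsg.Agent.H139.FlagInner Cfsg.Agent.H583.BR Cfsg.Agent.H963.XZ
open Cfsg.Agent.ClassicalGeometry.AutPSL.Root Cfsg.Agent.H674.XZ Cfsg Cfsg.Agent.Characters.Core
open Cfsg.Agent.H139.Young Cfsg.Agent.Characters Cfsg.Agent.Blocks.Local

variable {F : Type} [Field F] [Fintype F] {n : ℕ}

/-- a `p`-subgroup of `SL_n` with `w` blocks of dimension `e` and a rest of dimension `s0` -/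
structure QData (p : ℕ) (Q : Subgroup (SpecialLinearGroup (Fin n) F)) (w e s0 : ℕ) : Prop where
  pg : IsPGroup p Q
  blocks : ∀ s : SpecialLinearGroup (Fin n) F, (∀ t ∈ Q, t * s = s * t) →
    ∃ (V0 : Submodule F (Vec F n)) (U : ℕ → Submodule F (Vec F n)) (f : ℕ → Module.End F (Vec F n)),
      Blocks (lms Q ∪ {lm s}) V0 U f w e ∧ finrank F V0 = s0

/-- the full function -/
noncomputable def NG (K : Type*) [Ring K] (g : ProjectiveSpecialLinearGroup (Fin n) F) (a : Fin n → ℕ) : K :=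
  if ∑ i, a i = n then ((fz (flg n F a) g : ℤ) : K) else 0

theorem cnt_comp (g : Equiv.Perm (Fin n)) (σ : Equiv.Perm (Fin n)) (a : Fin n → ℕ) :
    H614.cnt g (a ∘ σ) = H614.cnt g a := by
  unfold H614.cnt
  refine Finset.card_bij (fun f _ => σ ∘ f) ?_ ?_ ?_
  · intro f hf
    rw [H614.mem_invSet] at hf ⊢
    refine ⟨by rw [Function.comp_assoc, hf.1], fun j => ?_⟩
    have h1 := hf.2 (σ.symm j)
    rw [Function.comp_apply, σ.apply_symm_apply] at h1
    rw [← h1]
    congr 1
    ext x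
    simp only [Finset.mem_filter, Finset.mem_univ, true_and, Function.comp_apply]
    exact (Equiv.eq_symm_apply σ).symm
  · intro f _ f' _ h
    funext x
    exact σ.injective (congrFun h x)
  · intro f hf
    rw [H614.mem_invSet] at hf
    refine ⟨σ.symm ∘ f, ?_, ?_⟩
    · rw [H614.mem_invSet]
      refine ⟨by rw [Function.comp_assoc, hf.1], fun j => ?_⟩
      rw [Function.comp_apply, ← hf.2 (σ j)]
      congr 1
      ext x
      simp only [Finset.mem_filter, Finset.mem_univ, true_and, Function.comp_apply]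
      exact Equiv.symm_apply_eq σ
    · funext x
      exact σ.apply_symm_apply _

/-- the flag characters do not depend on the order of the parts -/
theorem fz_perm (hn : 0 < n) {a : Fin n → ℕ} (ha : ∑ i, a i = n) (σ : Equiv.Perm (Fin n))
    (g : ProjectiveSpecialLinearGroup (Fin n) F) : fz (flg n F (a ∘ σ)) g = fz (flg n F a) g := by
  classical
  let _ : Fintype (ProjectiveSpecialLinearGroup (Fin n) F) := Fintype.ofFinite _
  have hσ : ∑ i, (a ∘ σ) i = n := (Equiv.sum_comp σ a).trans ha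
  have hY := youngType_flg (F := F) hn
  have hc : T (fun a : Fin n → ℕ => youngSubgroup a)
      (Finsupp.single (⟨a ∘ σ, hσ⟩ : Cmp n) 1 - Finsupp.single (⟨a, ha⟩ : Cmp n) 1) = 0 := by
    funext g
    rw [map_sub, Pi.sub_apply, T_single, T_single, one_mul, one_mul, Pi.zero_apply, sub_eq_zero]
    have h1 : ((fz (youngSubgroup (a ∘ σ)) g : ℤ) : ℂ) = ((fz (youngSubgroup a) g : ℤ) : ℂ) := by
      rw [fz_cast, fz_cast, Cfsg.Agent.H139.Unipotent.fixedPointCharacter_young _ hσ,
        Cfsg.Agent.H139.Unipotent.fixedPointCharacter_young _ ha, cnt_comp]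
    exact_mod_cast h1
  have h1 := congrFun (T_eq_zero hY youngType_young hc) g
  rw [map_sub, Pi.sub_apply, T_single, T_single, one_mul, one_mul, Pi.zero_apply, sub_eq_zero] at h1
  exact h1

theorem NG_perm (hn : 0 < n) (K : Type*) [Ring K] (g : ProjectiveSpecialLinearGroup (Fin n) F) (σ : Equiv.Perm (Fin n))
    (a : Fin n → ℕ) : NG K g (a ∘ σ) = NG K g a := by
  unfold NG
  have h1 : ∑ i, (a ∘ σ) i = ∑ i, a i := Equiv.sum_comp σ a
  rw [h1]
  by_cases h : ∑ i, a i = n
  · rw [if_pos h, if_pos h, fz_perm hn h]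
  · rw [if_neg h, if_neg h]

/-- the combination with the label `β` is the alternating sum -/
theorem T_cc_eq (K : Type*) [Ring K] {β : Fin n → ℕ} (hβ : ∑ i, β i = n + ∑ i : Fin n, (i : ℕ))
    (g : ProjectiveSpecialLinearGroup (Fin n) F) :
    ((T (flg n F) (cc β hβ) g : ℤ) : K) = AA (NG K g) β := by
  classical
  unfold AA cc
  rw [map_sum, Finset.sum_apply, Int.cast_sum]
  refine Finset.sum_congr rfl fun κ _ => ?_
  by_cases h : ∀ i, ((κ i : Fin n) : ℕ) ≤ β i
  · rw [dif_pos h, if_pos h, T_single]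
    unfold NG
    rw [if_pos (sum_le_comp hβ κ h)]
    push_cast
    rfl
  · rw [dif_neg h, if_neg h, map_zero]
    simp

theorem aux_row {V : Type*} [AddCommGroup V] [Module F V] {S : Set (Module.End F V)} {V0 : Submodule F V} {s0 : ℕ} (h : V0 ∈ St S)
    (h0 : finrank F V0 = s0) (q : Prop) [Decidable q] :
    (if q then V0 else ⊥) ∈ {x | x ∈ St S ∧ x ≤ V0} ∧ finrank F ↥(if q then V0 else ⊥ : Submodule F V) = if q then s0 else 0 := by
  by_cases hq : q
  · rw [if_pos hq, if_pos hq]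
    exact ⟨⟨h, le_rfl⟩, h0⟩
  · rw [if_neg hq, if_neg hq]
    exact ⟨⟨St.bot _, bot_le⟩, finrank_bot F _⟩

/-- the full function modulo `p` from the blocks -/
theorem NG_eq {p : ℕ} [Fact p.Prime] (hn : 0 < n) {Q : Subgroup (SpecialLinearGroup (Fin n) F)} {w e s0 : ℕ}
    (hQ : QData p Q w e s0) {s : SpecialLinearGroup (Fin n) F} (hs : ∀ t ∈ Q, t * s = s * t) :
    ∃ N : (Fin n → ℕ) → ZMod p, NG (ZMod p) (pr s) = (Dp e)^[w] N ∧ (∀ a, ∑ i, a i ≠ s0 → N a = 0) ∧
      N (fun i => kp n s0 i - (i : ℕ)) = 1 := by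
  classical
  obtain ⟨V0, U, f, B, hV0⟩ := hQ.blocks s hs
  refine ⟨NF (ZMod p) (lms Q ∪ {lm s}) V0, ?_, ?_, ?_⟩
  · rw [← B.card (ZMod p)]
    funext a
    unfold NG NF
    have h1 : finrank F ↥(⊤ : Submodule F (Vec F n)) = n := by rw [finrank_top, finrank_vec]
    rw [h1]
    by_cases h : ∑ i, a i = n
    · rw [if_pos h, if_pos h, fz_flg hn h, Int.cast_natCast]
      have h2 : {x | x ∈ St (lms Q ∪ {lm s}) ∧ x ≤ (⊤ : Submodule F (Vec F n))} = St (lms Q ∪ {lm s}) := by
        ext x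
        exact ⟨fun h => h.1, fun h => ⟨h, le_top⟩⟩
      rw [h2]
      exact (ZMod.natCast_eq_natCast_iff _ _ _).2 (NN_modEq hQ.pg hs a)
    · rw [if_neg h, if_neg h]
  · intro a ha
    unfold NF
    rw [hV0, if_neg ha]
  · have hrow : ∀ i : Fin n, kp n s0 i - (i : ℕ) = if (i : ℕ) + 1 = n then s0 else 0 := by
      intro i
      unfold kp
      split_ifs <;> omega
    have hps : ∀ j : Fin n, ps (fun i : Fin n => kp n s0 i - (i : ℕ)) j = if (j : ℕ) + 1 = n then s0 else 0 := by
      intro j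
      unfold ps
      by_cases hj : (j : ℕ) + 1 = n
      · rw [if_pos hj, Finset.sum_eq_single j]
        · rw [hrow, if_pos hj]
        · intro i _ hij
          rw [hrow, if_neg]
          intro h
          exact hij (Fin.ext (by omega))
        · intro h
          exact absurd (Finset.mem_Iic.2 le_rfl) h
      · rw [if_neg hj]
        refine Finset.sum_eq_zero fun i hi => ?_
        have h1 := Fin.le_def.1 (Finset.mem_Iic.1 hi)
        have := j.2
        rw [hrow, if_neg (by omega)]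
    have hsum : ∑ i : Fin n, (kp n s0 i - (i : ℕ)) = s0 := by
      have h1 := hps ⟨n - 1, by omega⟩
      rw [if_pos (by change n - 1 + 1 = n; omega)] at h1
      refine Eq.trans ?_ h1
      unfold ps
      refine Finset.sum_congr ?_ fun _ _ => rfl
      ext i
      have := i.2
      simp only [Finset.mem_univ, Finset.mem_Iic, true_iff, Fin.le_def]
      change (i : ℕ) ≤ n - 1
      omega
    unfold NF
    rw [hV0, if_pos hsum]
    have h1 : NN {x | x ∈ St (lms Q ∪ {lm s}) ∧ x ≤ V0} (fun i : Fin n => kp n s0 i - (i : ℕ)) = 1 := by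
      unfold NN
      rw [Nat.card_eq_one_iff_unique]
      refine ⟨⟨fun x y => ?_⟩, ⟨⟨fun j => if (j : ℕ) + 1 = n then V0 else ⊥, ?_, fun j => ?_⟩⟩⟩
      · apply Subtype.ext
        funext j
        have hx := x.2.2 j
        have hy := y.2.2 j
        rw [hps] at hx hy
        by_cases hj : (j : ℕ) + 1 = n
        · rw [if_pos hj] at hx hy
          rw [Submodule.eq_of_le_of_finrank_eq hx.1.2 (by rw [hx.2, hV0]),
            Submodule.eq_of_le_of_finrank_eq hy.1.2 (by rw [hy.2, hV0])]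
        · rw [if_neg hj] at hx hy
          rw [Submodule.finrank_eq_zero.1 hx.2, Submodule.finrank_eq_zero.1 hy.2]
      · intro i j hij
        have h2 := Fin.le_def.1 hij
        have := j.2
        change (if (i : ℕ) + 1 = n then V0 else ⊥) ≤ (if (j : ℕ) + 1 = n then V0 else ⊥)
        by_cases hi : (i : ℕ) + 1 = n
        · rw [if_pos hi, if_pos (by omega)]
        · rw [if_neg hi]
          exact bot_le
      · rw [hps]
        exact aux_row B.st hV0 _
    rw [h1, Nat.cast_one]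

/-- a lift commutes with `Q` -/
theorem exists_lift {p : ℕ} [hp : Fact p.Prime] {Q : Subgroup (SpecialLinearGroup (Fin n) F)} (hQ : ∀ t ∈ Q, ∃ k, t ^ p ^ k = 1)
    {s : SpecialLinearGroup (Fin n) F} (hg : ¬ p ∣ orderOf (pr s)) (hc : ∀ t ∈ Q, pr t * pr s = pr s * pr t) :
    ∀ t ∈ Q, t * s = s * t := by
  intro t ht
  set m := orderOf (pr s) with hm
  have h1 : s * t * s⁻¹ * t⁻¹ ∈ Subgroup.center (SpecialLinearGroup (Fin n) F) := by
    rw [← pr_eq_one_iff]
    rw [map_mul, map_mul, map_mul, map_inv, map_inv, ← hc t ht]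
    group
  set z := s * t * s⁻¹ * t⁻¹ with hz
  have hzc : ∀ x, z * x = x * z := fun x => (Subgroup.mem_center_iff.1 h1 x).symm
  have h2 : s * t * s⁻¹ = z * t := by rw [hz]; group
  -- the order of `z` divides a power of `p`
  obtain ⟨k, hk⟩ := hQ t ht
  have h3 : z ^ p ^ k = 1 := by
    have h4 : (s * t * s⁻¹) ^ p ^ k = 1 := by rw [conj_pow, hk, mul_one, mul_inv_cancel]
    rw [h2, (show Commute z t from hzc t).mul_pow, hk, mul_one] at h4
    exact h4
  -- and `m`
  have h5 : ∀ j : ℕ, s ^ j * t * (s ^ j)⁻¹ = z ^ j * t := by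
    intro j
    induction j with
    | zero => simp
    | succ j ih =>
      have e1 : s ^ (j + 1) * t * (s ^ (j + 1))⁻¹ = s * (s ^ j * t * (s ^ j)⁻¹) * s⁻¹ := by
        rw [pow_succ']
        group
      rw [e1, ih]
      have e2 : s * z ^ j = z ^ j * s := ((show Commute z s from hzc s).pow_left j).eq.symm
      calc s * (z ^ j * t) * s⁻¹ = (s * z ^ j) * t * s⁻¹ := by group
        _ = z ^ j * (s * t * s⁻¹) := by rw [e2]; group
        _ = z ^ (j + 1) * t := by rw [h2, pow_succ]; group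
  have h6 : s ^ m ∈ Subgroup.center (SpecialLinearGroup (Fin n) F) := by
    rw [← pr_eq_one_iff, map_pow, hm, pow_orderOf_eq_one]
  have h7 : z ^ m = 1 := by
    have h8 := h5 m
    rw [(Subgroup.mem_center_iff.1 h6 t).symm, mul_inv_cancel_right] at h8
    exact (mul_eq_right.1 h8.symm)
  have h8 : z = 1 := by
    have h9 : orderOf z ∣ Nat.gcd (p ^ k) m := Nat.dvd_gcd (orderOf_dvd_of_pow_eq_one h3) (orderOf_dvd_of_pow_eq_one h7)
    have h10 : Nat.Coprime (p ^ k) m := Nat.Coprime.pow_left k ((Nat.Prime.coprime_iff_not_dvd hp.out).2 hg)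
    rw [h10] at h9
    exact orderOf_eq_one_iff.1 (Nat.dvd_one.1 h9)
  rw [h8, one_mul, mul_inv_eq_iff_eq_mul] at h2
  exact h2.symm

/-- **The functional.** -/
theorem FV_of_Q {p : ℕ} [hp : Fact p.Prime] {M : Ideal AlgInt} (hM : IsPModular p M) (hn : 0 < n)
    {Q : Subgroup (SpecialLinearGroup (Fin n) F)} {w e s0 : ℕ} (hQ : QData p Q w e s0) (hs0 : s0 < e)
    (β : Fin n → ℕ) (hβ : ∑ i, β i = n + ∑ i : Fin n, (i : ℕ)) (c : ℤ)
    (hc : ∀ A, Tail p n s0 A → (Dp e)^[w] A β = (c : ZMod p)) :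
    FV p M (fun g : ProjectiveSpecialLinearGroup (Fin n) F => ((T (flg n F) (cc β hβ) g : ℤ) : ℂ)) c := by
  classical
  have hMp : M.IsPrime := hM.2.1.isPrime
  refine FV_of_local hM (hQ.pg.map pr) (isGen_T _) (fun u _ g => inv_of_int (isGen_T _) (fun g => ⟨_, rfl⟩) u g) ?_
  intro g hg hgQ
  obtain ⟨s, rfl⟩ := pr_surjective g
  have hs : ∀ t ∈ Q, t * s = s * t := by
    refine exists_lift (p := p) (fun t ht => ?_) hg fun t ht => hgQ _ (Subgroup.mem_map_of_mem _ ht)
    obtain ⟨k, hk⟩ := hQ.pg ⟨t, ht⟩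
    exact ⟨k, congrArg Subtype.val hk⟩
  obtain ⟨N, h1, h2, h3⟩ := NG_eq hn hQ hs
  have h4 : ((T (flg n F) (cc β hβ) (pr s) : ℤ) : ZMod p) = (c : ZMod p) := by
    rw [T_cc_eq, h1, AA_iterate]
    refine hc _ ⟨AA_alt ?_, ?_, AA_sum h2⟩
    · refine sym_of_iterate (w := w) hs0 N h2 fun σ a => ?_
      rw [← h1, NG_perm hn]
    · rw [AA_kp, h3]
  have h5 : (p : ℤ) ∣ T (flg n F) (cc β hβ) (pr s) - c := by
    rw [← ZMod.intCast_zmod_eq_zero_iff_dvd]
    push_cast
    rw [h4, sub_self]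
  have h6 : (((T (flg n F) (cc β hβ) (pr s) : ℤ) : ℂ) - (c : ℂ)) = ((T (flg n F) (cc β hβ) (pr s) - c : ℤ) : ℂ) := by
    push_cast
    rfl
  rw [h6, memLocalIdeal_intCast_iff hM]
  exact h5

end Cfsg.Agent.H45.XL
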