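import Cfsg.Agent.H45.XL.Main

/-!
# S4791 + S4927, `PSL_n` : `p ∣ q - 1` (helper45)

`Q` : the diagonal matrices of determinant `1` with entries in `μ_p`; the blocks are the coordinate lines, `n ≥ 3`.
-/

set_option autoImplicit false
set_option linter.unusedSectionVars false

namespace Cfsg.Agent.H45.XL

open scoped MatrixGroups Pointwise
open Finset Module Matrix MulAction Cfsg.Agent.H614 Cfsg.Agent.H87.Flags Cfsg.Agent.H87.FlagsGL
open Cfsg.Agent.H583.BR Cfsg.Agent.H963.XZ
open Cfsg.Agent.ClassicalGeometry.AutPSL.Root Cfsg.Agent.H674.XZ Cfsg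

variable {F : Type} [Field F] [Fintype F] {n : ℕ}

/-- the diagonal matrices -/
noncomputable def DH (n : ℕ) (F : Type) [Field F] : (Fin n → Fˣ) →* GL (Fin n) F where
  toFun := Cfsg.Agent.H583.BR.dg
  map_one' := by
    apply Units.ext
    rw [coe_dg]
    simp
  map_mul' x y := by
    apply Units.ext
    rw [coe_dg, Units.val_mul, coe_dg, coe_dg, diagonal_mul_diagonal]
    rfl

/-- the diagonal matrices of determinant `1` with entries in `μ_p` -/
noncomputable def Q1 (p n : ℕ) (F : Type) [Field F] : Subgroup (SpecialLinearGroup (Fin n) F) :=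
  ((powMonoidHom p : (Fin n → Fˣ) →* (Fin n → Fˣ)).ker.map (DH n F)).comap SpecialLinearGroup.toGL

theorem mem_Q1 {p : ℕ} {t : SpecialLinearGroup (Fin n) F} :
    t ∈ Q1 p n F ↔ ∃ x : Fin n → Fˣ, x ^ p = 1 ∧ Cfsg.Agent.H583.BR.dg x = SpecialLinearGroup.toGL t := Iff.rfl

theorem co_of_dg {t : SpecialLinearGroup (Fin n) F} {x : Fin n → Fˣ}
    (h : Cfsg.Agent.H583.BR.dg x = SpecialLinearGroup.toGL t) (v : Vec F n) (i : Fin n) : co (lm t v) i = x i * co v i := by
  rw [lm_apply, sl_smul_eq, ← h, co_smul, coe_dg, mulVec_diagonal]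

theorem isPGroup_Q1 (p : ℕ) : IsPGroup p (Q1 p n F) := by
  rintro ⟨t, ht⟩
  refine ⟨1, ?_⟩
  obtain ⟨x, hx, h⟩ := mem_Q1.1 ht
  apply Subtype.ext
  change t ^ p ^ 1 = 1
  rw [pow_one]
  have h1 : SpecialLinearGroup.toGL (t ^ p) = 1 := by
    rw [map_pow, ← h]
    change (DH n F x) ^ p = 1
    rw [← map_pow, hx, map_one]
  apply Subtype.ext
  have h2 := congrArg (fun g : GL (Fin n) F => (g : Matrix (Fin n) (Fin n) F)) h1
  exact h2

/-- a coordinate line -/
def ln (F : Type) [Field F] (n j : ℕ) : Submodule F (Vec F n) where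
  carrier := {v | ∀ i : Fin n, (i : ℕ) ≠ j → co v i = 0}
  add_mem' := by
    intro v w hv hw i hi
    rw [map_add, Pi.add_apply, hv i hi, hw i hi, add_zero]
  zero_mem' := by
    intro i _
    rw [map_zero, Pi.zero_apply]
  smul_mem' := by
    intro c v hv i hi
    rw [map_smul, Pi.smul_apply, hv i hi, smul_zero]

theorem mem_ln {j : ℕ} {v : Vec F n} : v ∈ ln F n j ↔ ∀ i : Fin n, (i : ℕ) ≠ j → co v i = 0 := Iff.rfl

/-- the vector with one coordinate -/
noncomputable def ev (n : ℕ) (F : Type) [Field F] (j : Fin n) : Vec F n := co.symm (Pi.single j 1)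

theorem co_ev (j : Fin n) : co (ev n F j) = Pi.single j 1 := co.apply_symm_apply _

theorem ln_eq_span (j : Fin n) : ln F n j = Submodule.span F {ev n F j} := by
  apply le_antisymm
  · intro v hv
    rw [Submodule.mem_span_singleton]
    refine ⟨co v j, co_injective ?_⟩
    funext i
    rw [map_smul, co_ev, Pi.smul_apply, smul_eq_mul]
    by_cases h : i = j
    · subst h
      rw [Pi.single_eq_same, mul_one]
    · rw [Pi.single_eq_of_ne h, mul_zero, hv i fun e => h (Fin.ext e)]
  · rw [Submodule.span_le, Set.singleton_subset_iff]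
    intro i hi
    rw [co_ev, Pi.single_eq_of_ne fun e => hi (congrArg Fin.val e)]

theorem finrank_ln (j : Fin n) : finrank F (ln F n j) = 1 := by
  rw [ln_eq_span]
  refine finrank_span_singleton fun h => ?_
  have h1 := congrArg (fun v => co v j) h
  simp only [co_ev, Pi.single_eq_same, map_zero, Pi.zero_apply] at h1
  exact one_ne_zero h1

theorem VV_ln {j : ℕ} (hj : j ≤ n) : VV ⊥ (ln F n) j = E F n j := by
  induction j with
  | zero =>
    change (⊥ : Submodule F (Vec F n)) = _
    symm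
    rw [eq_bot_iff]
    intro v hv
    rw [Submodule.mem_bot]
    exact co_injective (funext fun i => by rw [hv i (Nat.zero_le _), map_zero, Pi.zero_apply])
  | succ j ih =>
    change VV ⊥ (ln F n) j ⊔ ln F n j = _
    rw [ih (by omega)]
    apply le_antisymm
    · refine sup_le (E_mono (by omega)) fun v hv i hi => hv i (by omega)
    · intro v hv
      let u : Vec F n := co v ⟨j, by omega⟩ • ev n F ⟨j, by omega⟩
      have hu : u ∈ ln F n j := by
        intro i hi
        change co (co v ⟨j, _⟩ • ev n F ⟨j, _⟩) i = 0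
        rw [map_smul, co_ev, Pi.smul_apply, Pi.single_eq_of_ne fun e => hi (congrArg Fin.val e), smul_zero]
      have h1 : v = (v - u) + u := (sub_add_cancel v u).symm
      rw [h1]
      refine Submodule.add_mem_sup ?_ hu
      intro i hi
      rw [map_sub, Pi.sub_apply]
      by_cases h : (i : ℕ) = j
      · have h2 : (⟨j, by omega⟩ : Fin n) = i := Fin.ext h.symm
        change co v i - co (co v ⟨j, _⟩ • ev n F ⟨j, _⟩) i = 0
        rw [h2, map_smul, co_ev, Pi.smul_apply, Pi.single_eq_same, smul_eq_mul, mul_one, sub_self]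
      · rw [hu i h, hv i (by omega), sub_zero]

theorem E_top : E F n n = ⊤ := by
  rw [eq_top_iff]
  intro v _ i hi
  exact absurd i.2 (not_lt.2 hi)

/-- one entry -/
def ms (j : Fin n) (y : Fˣ) : Fin n → Fˣ := fun i => if i = j then y else 1

theorem ms_same (j : Fin n) (y : Fˣ) : ms j y j = y := if_pos rfl

theorem ms_ne {i j : Fin n} (h : i ≠ j) (y : Fˣ) : ms j y i = 1 := if_neg h

theorem ms_pow {j : Fin n} {y : Fˣ} {k : ℕ} (h : y ^ k = 1) : (ms j y) ^ k = 1 := by
  funext i
  rw [Pi.pow_apply, Pi.one_apply]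
  by_cases hi : i = j
  · rw [hi, ms_same, h]
  · rw [ms_ne hi, one_pow]

theorem prod_ms (j : Fin n) (y : Fˣ) : ∏ i, ms j y i = y := by
  rw [Finset.prod_eq_single j]
  · rw [ms_same]
  · intro b _ hb
    rw [ms_ne hb]
  · exact fun h => absurd (Finset.mem_univ _) h

/-- the operator of a coordinate: two elements of `Q` -/
theorem exists_op {p : ℕ} [hp : Fact p.Prime] (hq : p ∣ Fintype.card F - 1) (hn : 3 ≤ n) (j : Fin n) :
    ∃ t ∈ Q1 p n F, ∃ u ∈ Q1 p n F, ∃ c : F, c ≠ 0 ∧ ∀ v : Vec F n, ∀ i,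
      co ((lm t - 1) ((lm u - 1) v)) i = if i = j then c * co v i else 0 := by
  classical
  obtain ⟨z, hz⟩ : ∃ z : Fˣ, orderOf z = p := by
    refine exists_prime_orderOf_dvd_card p ?_
    rwa [Fintype.card_units]
  have hz1 : z ≠ 1 := by
    rintro rfl
    rw [orderOf_one] at hz
    exact hp.out.one_lt.ne hz
  -- two other coordinates
  obtain ⟨k, l, hkj, hlj, hkl⟩ : ∃ k l : Fin n, k ≠ j ∧ l ≠ j ∧ k ≠ l := by
    have h1 : 2 ≤ (Finset.univ.erase j).card := by
      rw [Finset.card_erase_of_mem (Finset.mem_univ j), Finset.card_univ, Fintype.card_fin]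
      omega
    obtain ⟨k, hk, l, hl, hkl⟩ := Finset.one_lt_card.1 h1
    exact ⟨k, l, Finset.ne_of_mem_erase hk, Finset.ne_of_mem_erase hl, hkl⟩
  have key : ∀ k : Fin n, k ≠ j → ∃ t ∈ Q1 p n F, ∀ (v : Vec F n) i, co ((lm t - 1) v) i =
      (if i = j then ((z : F) - 1) else if i = k then ((z⁻¹ : Fˣ) : F) - 1 else 0) * co v i := by
    intro k hk
    let x : Fin n → Fˣ := ms j z * ms k z⁻¹
    have hx : x ^ p = 1 := by
      change (ms j z * ms k z⁻¹) ^ p = 1
      rw [mul_pow, ms_pow (by rw [← hz, pow_orderOf_eq_one]), ms_pow (by rw [inv_pow, ← hz, pow_orderOf_eq_one, inv_one]),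
        one_mul]
    have hprod : ∏ i, x i = 1 := by
      change ∏ i, (ms j z i * ms k z⁻¹ i) = 1
      rw [Finset.prod_mul_distrib, prod_ms, prod_ms, mul_inv_cancel]
    obtain ⟨t, ht⟩ := exists_toGL (g := Cfsg.Agent.H583.BR.dg x) (by rw [Cfsg.Agent.H583.BR.det_dg, hprod])
    refine ⟨t, mem_Q1.2 ⟨x, hx, ht.symm⟩, fun v i => ?_⟩
    have h1 : co ((lm t - 1) v) i = co (lm t v) i - co v i := by
      rw [LinearMap.sub_apply, map_sub, Pi.sub_apply]
      rfl
    rw [h1, co_of_dg ht.symm]
    change ((ms j z i * ms k z⁻¹ i : Fˣ) : F) * co v i - co v i = _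
    by_cases hij : i = j
    · rw [if_pos hij, hij, ms_same, ms_ne (Ne.symm hk), mul_one]
      ring
    · rw [if_neg hij, ms_ne hij, one_mul]
      by_cases hik : i = k
      · rw [if_pos hik, hik, ms_same]
        ring
      · rw [if_neg hik, ms_ne hik, Units.val_one]
        ring
  obtain ⟨t, ht, h1⟩ := key k hkj
  obtain ⟨u, hu, h2⟩ := key l hlj
  refine ⟨t, ht, u, hu, ((z : F) - 1) * ((z : F) - 1), ?_, fun v i => ?_⟩
  · have h3 : (z : F) - 1 ≠ 0 := by
      rw [sub_ne_zero]
      intro h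
      exact hz1 (Units.ext h)
    exact mul_ne_zero h3 h3
  · rw [h1, h2]
    by_cases hij : i = j
    · rw [if_pos hij, if_pos hij, if_pos hij]
      ring
    · rw [if_neg hij, if_neg hij, if_neg hij]
      by_cases hik : i = k
      · rw [if_pos hik, if_neg (by rw [hik]; exact hkl), zero_mul, mul_zero]
      · rw [if_neg hik, zero_mul]

/-- **`e = 1`** -/
theorem qdata_one {p : ℕ} [hp : Fact p.Prime] (hq : p ∣ Fintype.card F - 1) (hn : 3 ≤ n) :
    QData p (Q1 p n F) n 1 0 where
  pg := isPGroup_Q1 p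
  blocks := by
    intro s hs
    choose t ht u hu c hc hop using exists_op (p := p) (F := F) hq hn
    let f : ℕ → Module.End F (Vec F n) := fun j => if h : j < n then (lm (t ⟨j, h⟩) - 1) * (lm (u ⟨j, h⟩) - 1) else 0
    have hf : ∀ (j : ℕ) (h : j < n) (v : Vec F n) (i : Fin n), co (f j v) i = if (i : ℕ) = j then c ⟨j, h⟩ * co v i else 0 := by
      intro j h v i
      change co ((if h : j < n then (lm (t ⟨j, h⟩) - 1) * (lm (u ⟨j, h⟩) - 1) else 0) v) i = _
      rw [dif_pos h]
      change co ((lm (t ⟨j, h⟩) - 1) ((lm (u ⟨j, h⟩) - 1) v)) i = _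
      rw [hop]
      by_cases hij : (i : ℕ) = j
      · rw [if_pos hij, if_pos (Fin.ext hij)]
      · rw [if_neg hij, if_neg fun e => hij (congrArg Fin.val e)]
    have hcomm : ∀ (j : ℕ) (v : Vec F n), f j (lm s v) = lm s (f j v) := by
      intro j v
      have h1 : ∀ x ∈ Q1 p n F, ∀ v : Vec F n, (lm x - 1) (lm s v) = lm s ((lm x - 1) v) := by
        intro x hx v
        have h2 : lm x (lm s v) = lm s (lm x v) := by
          rw [lm_apply, lm_apply, lm_apply, lm_apply, ← mul_smul, ← mul_smul, hs x hx]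
        change lm x (lm s v) - lm s v = lm s (lm x v - v)
        rw [h2, map_sub]
      by_cases h : j < n
      · change (if h : j < n then (lm (t ⟨j, h⟩) - 1) * (lm (u ⟨j, h⟩) - 1) else 0) (lm s v) =
          lm s ((if h : j < n then (lm (t ⟨j, h⟩) - 1) * (lm (u ⟨j, h⟩) - 1) else 0) v)
        rw [dif_pos h]
        change (lm (t ⟨j, h⟩) - 1) ((lm (u ⟨j, h⟩) - 1) (lm s v)) = lm s ((lm (t ⟨j, h⟩) - 1) ((lm (u ⟨j, h⟩) - 1) v))
        rw [h1 _ (hu _), h1 _ (ht _)]
      · change (if h : j < n then (lm (t ⟨j, h⟩) - 1) * (lm (u ⟨j, h⟩) - 1) else 0) (lm s v) =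
          lm s ((if h : j < n then (lm (t ⟨j, h⟩) - 1) * (lm (u ⟨j, h⟩) - 1) else 0) v)
        rw [dif_neg h, LinearMap.zero_apply, LinearMap.zero_apply, map_zero]
    have hst : ∀ j < n, ln F n j ∈ St (lms (Q1 p n F) ∪ {lm s}) := by
      intro j hj g hg v hv i hi
      rcases hg with ⟨x, hx, rfl⟩ | hg
      · obtain ⟨y, _, hy⟩ := mem_Q1.1 hx
        rw [co_of_dg hy, hv i hi, mul_zero]
      · rw [Set.mem_singleton_iff] at hg
        rw [hg]
        -- `v` is a multiple of `f j v`
        have h1 : c ⟨j, hj⟩ • v = f j v := by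
          apply co_injective
          funext k
          rw [map_smul, Pi.smul_apply, smul_eq_mul, hf j hj]
          by_cases hk : (k : ℕ) = j
          · rw [if_pos hk]
          · rw [if_neg hk, hv k hk, mul_zero]
        have h2 : c ⟨j, hj⟩ * co (lm s v) i = 0 := by
          have h3 : c ⟨j, hj⟩ • lm s v = f j (lm s v) := by rw [← map_smul, h1, hcomm]
          have h4 := congrArg (fun w => co w i) h3
          simp only [map_smul, Pi.smul_apply, smul_eq_mul] at h4
          rw [h4, hf j hj, if_neg hi]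
        exact (mul_eq_zero.1 h2).resolve_left (hc _)
    refine ⟨⊥, ln F n, f, ⟨St.bot _, fun j hj => ?_, fun j hj => finrank_ln ⟨j, hj⟩, ?_⟩, finrank_bot F _⟩
    · refine ⟨fun h => ?_, hst j hj, fun x hx v hv => ?_, fun v hv => ?_, fun v hv h0 => ?_, fun y _ hy => ?_⟩
      · have h1 := finrank_ln (F := F) (n := n) ⟨j, hj⟩
        change finrank F (ln F n j) = 1 at h1
        rw [h, finrank_bot] at h1
        exact zero_ne_one h1
      · have h1 : ∀ y ∈ Q1 p n F, ∀ v ∈ x, (lm y - 1) v ∈ x := by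
          intro y hy v hv
          exact x.sub_mem (hx _ (Or.inl ⟨y, hy, rfl⟩) v hv) hv
        change (if h : j < n then (lm (t ⟨j, h⟩) - 1) * (lm (u ⟨j, h⟩) - 1) else 0) v ∈ x
        rw [dif_pos hj]
        exact h1 _ (ht _) _ (h1 _ (hu _) v hv)
      · rw [VV_ln hj.le] at hv
        apply co_injective
        funext i
        rw [hf j hj, map_zero, Pi.zero_apply]
        by_cases hij : (i : ℕ) = j
        · rw [if_pos hij, hv i hij.ge, mul_zero]
        · rw [if_neg hij]
      · apply co_injective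
        funext i
        rw [map_zero, Pi.zero_apply]
        by_cases hij : (i : ℕ) = j
        · have h1 := congrArg (fun w => co w i) h0
          simp only [map_zero, Pi.zero_apply] at h1
          rw [hf j hj, if_pos hij] at h1
          exact (mul_eq_zero.1 h1).resolve_left (hc _)
        · exact hv i hij
      · by_cases h : y = ⊥
        · exact Or.inl h
        · right
          apply Submodule.eq_of_le_of_finrank_le hy
          have h1 : finrank F (ln F n j) = 1 := finrank_ln (F := F) (n := n) ⟨j, hj⟩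
          rw [h1]
          exact Nat.one_le_iff_ne_zero.2 fun h2 => h (Submodule.finrank_eq_zero.1 h2)
    · rw [VV_ln le_rfl, E_top]

/-- **The functional of the flag combinations, `p ∣ q - 1`.** -/
theorem FV_label_one {p : ℕ} [hp : Fact p.Prime] {M : Ideal AlgInt} (hM : IsPModular p M)
    (hq : p ∣ Fintype.card F - 1) (h3 : 3 ≤ n) (β : Fin n → ℕ) (hβ : ∑ i, β i = n + ∑ i : Fin n, (i : ℕ)) (c : ℤ)
    (hc : ∀ A, Tail p n 0 A → (Dp 1)^[n] A β = (c : ZMod p)) :
    FV p M (fun g : ProjectiveSpecialLinearGroup (Fin n) F => ((T (flg n F) (cc β hβ) g : ℤ) : ℂ)) c :=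
  FV_of_Q hM (by omega) (qdata_one hq h3) Nat.zero_lt_one β hβ c hc

end Cfsg.Agent.H45.XL
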