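import Cfsg.Agent.H45.XL.Defs

/-!
# S4791 + S4927, `PSL_n` : chains of submodules, one block (helper45)

`Ch L a` : the chains `x₀ ≤ x₁ ≤ …` of members of `L` with `dim x_j = a₀ + … + a_j`;
`card_peel` : `V' ⊕ U`, where every member of `L` lies in `V'` or contains `U`.
-/

set_option autoImplicit false
set_option linter.unusedSectionVars false

namespace Cfsg.Agent.H45.XL

open Finset Module Cfsg.Agent.H614

variable {F V : Type*} [Field F] [AddCommGroup V] [Module F V] {m : ℕ}

/-- partial sums -/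
def ps (a : Fin m → ℕ) (j : Fin m) : ℕ := ∑ i ∈ Finset.Iic j, a i

/-- `x` is a chain of members of `L` of type `a` -/
def IsCh (L : Set (Submodule F V)) (a : Fin m → ℕ) (x : Fin m → Submodule F V) : Prop :=
  Monotone x ∧ ∀ j, x j ∈ L ∧ finrank F (x j) = ps a j

/-- the number of the chains of type `a` -/
noncomputable def NN (L : Set (Submodule F V)) (a : Fin m → ℕ) : ℕ := Nat.card {x : Fin m → Submodule F V // IsCh L a x}

theorem ps_dn_of_lt (a : Fin m → ℕ) {i j : Fin m} (h : j < i) (e : ℕ) : ps (dn a i e) j = ps a j := by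
  unfold ps
  refine Finset.sum_congr rfl fun k hk => dn_ne a e ?_
  rintro rfl
  exact absurd (Finset.mem_Iic.1 hk) (not_le.2 h)

theorem ps_dn_of_le (a : Fin m → ℕ) {i j : Fin m} (h : i ≤ j) {e : ℕ} (he : e ≤ a i) : ps (dn a i e) j + e = ps a j := by
  unfold ps
  rw [← Finset.add_sum_erase _ _ (Finset.mem_Iic.2 h), ← Finset.add_sum_erase _ a (Finset.mem_Iic.2 h), dn_self,
    Finset.sum_congr rfl (fun k hk => dn_ne a e (Finset.ne_of_mem_erase hk))]
  omega

theorem ps_eq (a : Fin m → ℕ) (j : Fin m) : ps a j = ∑ i ∈ Finset.Iio j, a i + a j := by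
  unfold ps
  have h : Finset.Iic j = insert j (Finset.Iio j) := by
    ext k
    rw [Finset.mem_insert, Finset.mem_Iic, Finset.mem_Iio, le_iff_eq_or_lt]
  rw [h, Finset.sum_insert (by simp), add_comm]

theorem sum_Iio_le [FiniteDimensional F V] {L : Set (Submodule F V)} {a : Fin m → ℕ} {x : Fin m → Submodule F V}
    (hx : IsCh L a x) (y : Submodule F V) (i : Fin m) (hy : ∀ j < i, x j ≤ y) : ∑ k ∈ Finset.Iio i, a k ≤ finrank F y := by
  rcases Nat.eq_zero_or_pos (i : ℕ) with h0 | h0
  · have h : Finset.Iio i = ∅ := by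
      ext k
      rw [Finset.mem_Iio, Fin.lt_def, h0]
      simp
    rw [h, Finset.sum_empty]
    exact Nat.zero_le _
  · have hi := i.2
    let j : Fin m := ⟨i - 1, by omega⟩
    have hj : j < i := by
      rw [Fin.lt_def]
      change (i : ℕ) - 1 < i
      omega
    have h : Finset.Iio i = Finset.Iic j := by
      ext k
      rw [Finset.mem_Iio, Finset.mem_Iic, Fin.lt_def, Fin.le_def]
      change (k : ℕ) < i ↔ (k : ℕ) ≤ (i : ℕ) - 1
      omega
    rw [h]
    calc ∑ k ∈ Finset.Iic j, a k = finrank F (x j) := ((hx.2 j).2).symm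
      _ ≤ finrank F y := Submodule.finrank_mono (hy j hj)

/-- one block -/
structure Peel (L L' : Set (Submodule F V)) (V' U : Submodule F V) : Prop where
  disj : Disjoint V' U
  le' : ∀ x ∈ L', x ≤ V'
  mem : ∀ x ∈ L', x ∈ L
  memU : ∀ x ∈ L', x ⊔ U ∈ L
  le : ∀ x ∈ L, x ≤ V' ⊔ U
  inf : ∀ x ∈ L, x ⊓ V' ∈ L'
  dich : ∀ x ∈ L, x ≤ V' ∨ U ≤ x

section peel

variable [FiniteDimensional F V] {L L' : Set (Submodule F V)} {V' U : Submodule F V}

theorem Peel.sup_inf (P : Peel L L' V' U) {x : Submodule F V} (hx : x ≤ V') : (x ⊔ U) ⊓ V' = x := by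
  rw [sup_inf_assoc_of_le U hx, inf_comm, P.disj.eq_bot, sup_bot_eq]

theorem Peel.inf_sup (P : Peel L L' V' U) {x : Submodule F V} (hx : x ∈ L) (hU : U ≤ x) : x ⊓ V' ⊔ U = x := by
  have h1 : (U ⊔ V') ⊓ x = U ⊔ V' ⊓ x := sup_inf_assoc_of_le V' hU
  rw [inf_comm, sup_comm, ← h1, inf_eq_right, sup_comm]
  exact P.le x hx

theorem Peel.finrank_sup (P : Peel L L' V' U) {x : Submodule F V} (hx : x ≤ V') :
    finrank F ↥(x ⊔ U) = finrank F x + finrank F U := by
  have h1 := Submodule.finrank_sup_add_finrank_inf_eq x U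
  have h2 : x ⊓ U = ⊥ := (P.disj.mono_left hx).eq_bot
  rw [h2, finrank_bot, add_zero] at h1
  exact h1

/-- the chain with the block in the step `i` -/
noncomputable def mkc (U : Submodule F V) (i : Fin m) (y : Fin m → Submodule F V) (j : Fin m) : Submodule F V :=
  if i ≤ j then y j ⊔ U else y j

theorem Peel.isCh_mkc (P : Peel L L' V' U) {a : Fin m → ℕ} {i : Fin m} {y : Fin m → Submodule F V}
    (hi : finrank F U ≤ a i) (hy : IsCh L' (dn a i (finrank F U)) y) : IsCh L a (mkc U i y) := by
  constructor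
  · intro j k hjk
    unfold mkc
    by_cases h1 : i ≤ j
    · rw [if_pos h1, if_pos (h1.trans hjk)]
      exact sup_le_sup_right (hy.1 hjk) _
    · rw [if_neg h1]
      split_ifs with h2
      · exact (hy.1 hjk).trans le_sup_left
      · exact hy.1 hjk
  · intro j
    have h0 := P.le' _ (hy.2 j).1
    unfold mkc
    by_cases h1 : i ≤ j
    · rw [if_pos h1, P.finrank_sup h0, (hy.2 j).2]
      exact ⟨P.memU _ (hy.2 j).1, ps_dn_of_le a h1 hi⟩
    · rw [if_neg h1, (hy.2 j).2]
      exact ⟨P.mem _ (hy.2 j).1, ps_dn_of_lt a (not_le.1 h1) _⟩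

theorem Peel.mkc_le_iff (P : Peel L L' V' U) (hU : U ≠ ⊥) {i : Fin m} {y : Fin m → Submodule F V} (hy : ∀ j, y j ≤ V')
    (j : Fin m) : U ≤ mkc U i y j ↔ i ≤ j := by
  unfold mkc
  constructor
  · intro h
    by_contra hcon
    rw [if_neg hcon] at h
    exact hU (P.disj.eq_bot_of_ge (h.trans (hy j)))
  · intro h
    rw [if_pos h]
    exact le_sup_right

/-- **One block.** -/
theorem Peel.card (P : Peel L L' V' U) [Finite V] (hU : U ≠ ⊥) {a : Fin m → ℕ} (ha : ∑ i, a i = finrank F ↥(V' ⊔ U)) :
    NN L a = ∑ i, if finrank F U ≤ a i then NN L' (dn a i (finrank F U)) else 0 := by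
  classical
  set e := finrank F U with he
  have hfin : Finite (Submodule F V) := inferInstance
  let Q : Fin m → (Fin m → Submodule F V) → Prop := fun i y => e ≤ a i ∧ IsCh L' (dn a i e) y
  have h1 : NN L a = Nat.card {z : Fin m × (Fin m → Submodule F V) // Q z.1 z.2} := by
    symm
    refine Nat.card_congr (Equiv.ofBijective
      (fun z : {z : Fin m × (Fin m → Submodule F V) // Q z.1 z.2} =>
        (⟨mkc U z.1.1 z.1.2, P.isCh_mkc z.2.1 z.2.2⟩ : {x : Fin m → Submodule F V // IsCh L a x})) ⟨?_, ?_⟩)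
    · rintro ⟨⟨i, y⟩, h2, h3⟩ ⟨⟨i', y'⟩, h4, h5⟩ h6
      have h7 : mkc U i y = mkc U i' y' := congrArg Subtype.val h6
      have hy : ∀ j, y j ≤ V' := fun j => P.le' _ (h3.2 j).1
      have hy' : ∀ j, y' j ≤ V' := fun j => P.le' _ (h5.2 j).1
      have h8 : ∀ j, i ≤ j ↔ i' ≤ j := fun j => by
        rw [← P.mkc_le_iff hU hy j, ← P.mkc_le_iff hU hy' j, h7]
      have h9 : i = i' := le_antisymm ((h8 i').2 le_rfl) ((h8 i).1 le_rfl)
      subst h9
      refine Subtype.ext (Prod.ext rfl (funext fun j => ?_))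
      have h10 := congrFun h7 j
      change y j = y' j
      unfold mkc at h10
      by_cases h11 : i ≤ j
      · rw [if_pos h11, if_pos h11] at h10
        rw [← P.sup_inf (hy j), h10, P.sup_inf (hy' j)]
      · rwa [if_neg h11, if_neg h11] at h10
    · rintro ⟨x, hx⟩
      have hm : 0 < m := by
        rcases Nat.eq_zero_or_pos m with h0 | h0
        · exfalso
          subst h0
          rw [Finset.univ_eq_empty, Finset.sum_empty] at ha
          have h2 := Submodule.finrank_mono (R := F) (le_sup_right : U ≤ V' ⊔ U)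
          rw [← ha] at h2
          exact hU (Submodule.finrank_eq_zero.1 (Nat.le_zero.1 h2))
        · exact h0
      -- the last member is everything
      let l : Fin m := ⟨m - 1, by omega⟩
      have hl : ps a l = ∑ i, a i := by
        unfold ps
        congr 1
        ext k
        have := k.2
        simp only [Finset.mem_Iic, Finset.mem_univ, iff_true, Fin.le_def]
        change (k : ℕ) ≤ m - 1
        omega
      have hxl : U ≤ x l := by
        have h2 := P.le _ (hx.2 l).1
        have h3 : x l = V' ⊔ U := Submodule.eq_of_le_of_finrank_eq h2 (by rw [(hx.2 l).2, hl, ha])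
        rw [h3]
        exact le_sup_right
      have hne : (Finset.univ.filter fun j : Fin m => U ≤ x j).Nonempty := ⟨l, by simpa using hxl⟩
      set i := (Finset.univ.filter fun j : Fin m => U ≤ x j).min' hne with hi
      have hi1 : U ≤ x i := (Finset.mem_filter.1 (Finset.min'_mem _ hne)).2
      have hi2 : ∀ j, U ≤ x j ↔ i ≤ j := by
        intro j
        constructor
        · intro h
          exact Finset.min'_le _ _ (by simpa using h)
        · intro h
          exact hi1.trans (hx.1 h)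
      have hlt : ∀ j, j < i → x j ≤ V' := by
        intro j hj
        rcases P.dich _ (hx.2 j).1 with h | h
        · exact h
        · exact absurd ((hi2 j).1 h) (not_le.2 hj)
      have hmk : mkc U i (fun j => x j ⊓ V') = x := by
        funext j
        unfold mkc
        by_cases h : i ≤ j
        · rw [if_pos h]
          exact P.inf_sup (hx.2 j).1 ((hi2 j).2 h)
        · rw [if_neg h]
          exact inf_eq_left.2 (hlt j (not_le.1 h))
      have hfr : ∀ j, i ≤ j → finrank F ↥(x j ⊓ V') + e = ps a j := by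
        intro j hj
        rw [← (hx.2 j).2, ← P.finrank_sup (inf_le_right : x j ⊓ V' ≤ V'), P.inf_sup (hx.2 j).1 ((hi2 j).2 hj)]
      have hei : e ≤ a i := by
        have h2 := sum_Iio_le hx (x i ⊓ V') i fun j hj => le_inf (hx.1 hj.le) (hlt j hj)
        have h3 := hfr i le_rfl
        rw [ps_eq] at h3
        omega
      refine ⟨⟨⟨i, fun j => x j ⊓ V'⟩, hei, fun j k hjk => inf_le_inf_right _ (hx.1 hjk), fun j => ⟨P.inf _ (hx.2 j).1, ?_⟩⟩,
        Subtype.ext hmk⟩
      change finrank F ↥(x j ⊓ V') = ps (dn a i e) j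
      by_cases h : i ≤ j
      · have h2 := hfr j h
        have h3 := ps_dn_of_le a h hei
        omega
      · rw [ps_dn_of_lt a (not_le.1 h), ← (hx.2 j).2, inf_eq_left.2 (hlt j (not_le.1 h))]
  rw [h1, Nat.card_congr (Equiv.subtypeProdEquivSigmaSubtype Q), Nat.card_sigma]
  refine Finset.sum_congr rfl fun i _ => ?_
  by_cases h : e ≤ a i
  · rw [if_pos h]
    refine Nat.card_congr (Equiv.subtypeEquivRight fun y => ?_)
    exact ⟨fun h2 => h2.2, fun h2 => ⟨h, h2⟩⟩
  · rw [if_neg h]
    have : IsEmpty {y : Fin m → Submodule F V // Q i y} := ⟨fun y => h y.2.1⟩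
    exact Nat.card_of_isEmpty

end peel

end Cfsg.Agent.H45.XL
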