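import Cfsg.Agent.H45.XL.Peel

/-!
# S4791 + S4927, `PSL_n` : stable submodules, all blocks (helper45)

`St S` : the submodules stable under the endomorphisms in `S`.
`VV V0 U j = V0 ⊔ U 0 ⊔ … ⊔ U (j - 1)`; `Blocks` : the hypotheses; `card_blocks`.
-/

set_option autoImplicit false
set_option linter.unusedSectionVars false

namespace Cfsg.Agent.H45.XL

open Finset Module Cfsg.Agent.H614

variable {F V : Type*} [Field F] [AddCommGroup V] [Module F V] {m : ℕ}

/-- the stable submodules -/
def St (S : Set (Module.End F V)) : Set (Submodule F V) := {x | ∀ f ∈ S, ∀ v ∈ x, f v ∈ x}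

theorem St.sup {S : Set (Module.End F V)} {x y : Submodule F V} (hx : x ∈ St S) (hy : y ∈ St S) : x ⊔ y ∈ St S := by
  intro f hf v hv
  obtain ⟨a, ha, b, hb, rfl⟩ := Submodule.mem_sup.1 hv
  rw [map_add]
  exact Submodule.add_mem_sup (hx f hf a ha) (hy f hf b hb)

theorem St.inf {S : Set (Module.End F V)} {x y : Submodule F V} (hx : x ∈ St S) (hy : y ∈ St S) : x ⊓ y ∈ St S :=
  fun f hf v hv => ⟨hx f hf v hv.1, hy f hf v hv.2⟩

theorem St.bot (S : Set (Module.End F V)) : (⊥ : Submodule F V) ∈ St S := by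
  intro f _ v hv
  rw [Submodule.mem_bot] at hv ⊢
  rw [hv, map_zero]

/-- the block `U` next to `V'`, with the operator `f` -/
structure Block (S : Set (Module.End F V)) (V' U : Submodule F V) (f : Module.End F V) : Prop where
  ne : U ≠ ⊥
  st : U ∈ St S
  op : ∀ x ∈ St S, ∀ v ∈ x, f v ∈ x
  zero : ∀ v ∈ V', f v = 0
  inj : ∀ v ∈ U, f v = 0 → v = 0
  irr : ∀ y ∈ St S, y ≤ U → y = ⊥ ∨ y = U

theorem Block.disj {S : Set (Module.End F V)} {V' U : Submodule F V} {f : Module.End F V} (B : Block S V' U f) :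
    Disjoint V' U := by
  rw [Submodule.disjoint_def]
  exact fun v h1 h2 => B.inj v h2 (B.zero v h1)

theorem Block.peel {S : Set (Module.End F V)} {V' U : Submodule F V} {f : Module.End F V} (B : Block S V' U f)
    (hV : V' ∈ St S) : Peel {x | x ∈ St S ∧ x ≤ V' ⊔ U} {x | x ∈ St S ∧ x ≤ V'} V' U where
  disj := B.disj
  le' x hx := hx.2
  mem x hx := ⟨hx.1, hx.2.trans le_sup_left⟩
  memU x hx := ⟨St.sup hx.1 B.st, sup_le_sup_right hx.2 _⟩
  le x hx := hx.2
  inf x hx := ⟨St.inf hx.1 hV, inf_le_right⟩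
  dich := by
    rintro x ⟨hx1, hx2⟩
    by_cases h : ∀ v ∈ x, f v = 0
    · left
      intro v hv
      obtain ⟨a, ha, b, hb, rfl⟩ := Submodule.mem_sup.1 (hx2 hv)
      have h1 := h _ hv
      rw [map_add, B.zero a ha, zero_add] at h1
      rw [B.inj b hb h1, add_zero]
      exact ha
    · right
      push Not at h
      obtain ⟨v, hv, hne⟩ := h
      obtain ⟨a, ha, b, hb, rfl⟩ := Submodule.mem_sup.1 (hx2 hv)
      have h1 : f (a + b) ∈ U := by
        rw [map_add, B.zero a ha, zero_add]
        exact B.op U B.st b hb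
      have h2 : f (a + b) ∈ x := B.op x hx1 _ hv
      rcases B.irr (x ⊓ U) (St.inf hx1 B.st) inf_le_right with h3 | h3
      · exfalso
        apply hne
        have h4 : f (a + b) ∈ x ⊓ U := ⟨h2, h1⟩
        rwa [h3, Submodule.mem_bot] at h4
      · rw [← h3]
        exact inf_le_left

/-- the partial sums of the blocks -/
def VV (V0 : Submodule F V) (U : ℕ → Submodule F V) : ℕ → Submodule F V
  | 0 => V0
  | j + 1 => VV V0 U j ⊔ U j

/-- `V = V0 ⊕ U 0 ⊕ … ⊕ U (w - 1)`, blocks of dimension `e` -/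
structure Blocks (S : Set (Module.End F V)) (V0 : Submodule F V) (U : ℕ → Submodule F V) (f : ℕ → Module.End F V)
    (w e : ℕ) : Prop where
  st : V0 ∈ St S
  blk : ∀ j < w, Block S (VV V0 U j) (U j) (f j)
  rk : ∀ j < w, finrank F (U j) = e
  top : VV V0 U w = ⊤

section blocks

variable {S : Set (Module.End F V)} {V0 : Submodule F V} {U : ℕ → Submodule F V} {f : ℕ → Module.End F V} {w e : ℕ}

theorem Blocks.stV (B : Blocks S V0 U f w e) {j : ℕ} (hj : j ≤ w) : VV V0 U j ∈ St S := by
  induction j with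
  | zero => exact B.st
  | succ j ih => exact St.sup (ih (by omega)) (B.blk j (by omega)).st

variable [FiniteDimensional F V]

theorem Blocks.finrankV (B : Blocks S V0 U f w e) {j : ℕ} (hj : j ≤ w) : finrank F (VV V0 U j) = finrank F V0 + e * j := by
  induction j with
  | zero => rfl
  | succ j ih =>
    have h1 := Submodule.finrank_sup_add_finrank_inf_eq (VV V0 U j) (U j)
    rw [(B.blk j (by omega)).disj.eq_bot, finrank_bot, add_zero, ih (by omega), B.rk j (by omega)] at h1
    change finrank F ↥(VV V0 U j ⊔ U j) = _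
    rw [h1]
    ring

open Classical in
/-- the number of the chains in `x ≤ Y` of type `a`, `0` if the sum is not `dim Y` -/
noncomputable def NF (K : Type*) [AddGroupWithOne K] (S : Set (Module.End F V)) (Y : Submodule F V) (a : Fin m → ℕ) : K :=
  if ∑ i, a i = finrank F Y then ((NN {x | x ∈ St S ∧ x ≤ Y} a : ℕ) : K) else 0

theorem Blocks.step (B : Blocks S V0 U f w e) [Finite V] (K : Type*) [Ring K] {j : ℕ} (hj : j < w) :
    NF K S (VV V0 U (j + 1)) = Dp (m := m) e (NF K S (VV V0 U j)) := by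
  classical
  funext a
  have hb := B.blk j hj
  have h1 := B.finrankV (j := j + 1) (by omega)
  have h0 := B.finrankV (j := j) (by omega)
  rw [Dp_apply]
  by_cases ha : ∑ i, a i = finrank F (VV V0 U (j + 1))
  · unfold NF
    rw [if_pos ha]
    have h2 := (hb.peel (B.stV hj.le)).card hb.ne ha
    rw [B.rk j hj] at h2
    change ((NN {x | x ∈ St S ∧ x ≤ VV V0 U j ⊔ U j} a : ℕ) : K) = _
    rw [h2, Nat.cast_sum]
    refine Finset.sum_congr rfl fun i _ => ?_
    by_cases h3 : e ≤ a i
    · rw [if_pos h3, if_pos h3, if_pos]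
      have h4 := sum_dn a i h3
      have h5 : e * (j + 1) = e * j + e := by ring
      omega
    · rw [if_neg h3, if_neg h3, Nat.cast_zero]
  · unfold NF
    rw [if_neg ha]
    symm
    refine Finset.sum_eq_zero fun i _ => ?_
    by_cases h3 : e ≤ a i
    · rw [if_pos h3, if_neg]
      intro h6
      have h4 := sum_dn a i h3
      have h5 : e * (j + 1) = e * j + e := by ring
      omega
    · rw [if_neg h3]

/-- **All blocks.** -/
theorem Blocks.card (B : Blocks S V0 U f w e) [Finite V] (K : Type*) [Ring K] :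
    NF K S ⊤ = (Dp (m := m) e)^[w] (NF K S V0) := by
  have h : ∀ j ≤ w, NF K S (VV V0 U j) = (Dp (m := m) e)^[j] (NF K S V0) := by
    intro j
    induction j with
    | zero => intro _; rfl
    | succ j ih =>
      intro hj
      rw [Function.iterate_succ_apply', ← ih (by omega), B.step K (by omega)]
  rw [← B.top]
  exact h w le_rfl

end blocks

end Cfsg.Agent.H45.XL
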